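import Cfsg.Agent.H319.PQ.Cosets_m3
import Cfsg.Agent.H722.RealP
import Cfsg.Agent.H739.PQ.Fix
import Cfsg.Agent.H488.PQ.Height
import Cfsg.Agent.Prune
set_option linter.all false

-- part: H635/SB/Real
section
set_option linter.all false
open scoped Cfsg.Agent.FastGrp

/-!
# S4884: real elements (helper635)

`RowQ.of_real_exact` : `q ∥ |S|` and a real element of order `q`: there is a real common character.
-/

set_option autoImplicit false
set_option linter.unusedSectionVars false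
set_option linter.unusedVariables false

open Cfsg

namespace Cfsg.Agent.H635.SB

open Cfsg.Agent.H317.PQ Cfsg.Agent.H709.PB Cfsg.Agent.H766.PQ Cfsg.Agent.Blocks.Basic
open Cfsg.Agent.Blocks Cfsg.Agent.Blocks.Local Cfsg.Agent.H635.PQ
open scoped ComplexConjugate

universe u v

/-- a sum over a set with a fixed point free involution -/
theorem exists_half {ι : Type*} [DecidableEq ι] (σ : ι → ι) (f : ι → ℂ) : ∀ (n : ℕ) (U : Finset ι), U.card = n →
    (∀ i ∈ U, σ i ∈ U) → (∀ i ∈ U, σ (σ i) = i) → (∀ i ∈ U, σ i ≠ i) → (∀ i ∈ U, f (σ i) = f i) →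
    ∃ V ⊆ U, ∑ i ∈ U, f i = 2 * ∑ i ∈ V, f i := by
  intro n
  induction n using Nat.strong_induction_on with
  | _ n ih =>
    intro U hn h1 h2 h3 h4
    rcases U.eq_empty_or_nonempty with rfl | ⟨i, hi⟩
    · exact ⟨∅, subset_rfl, by simp⟩
    · have hσi : σ i ∈ U.erase i := Finset.mem_erase.2 ⟨h3 i hi, h1 i hi⟩
      obtain ⟨V, hV, hs⟩ := ih ((U.erase i).erase (σ i)).card (by
          rw [← hn]
          exact ((Finset.card_erase_lt_of_mem hσi).trans (Finset.card_erase_lt_of_mem hi))) _ rfl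
        (by
          intro j hj
          obtain ⟨hj1, hj2⟩ := Finset.mem_erase.1 hj
          obtain ⟨hj2, hj3⟩ := Finset.mem_erase.1 hj2
          refine Finset.mem_erase.2 ⟨fun h => hj2 ?_, Finset.mem_erase.2 ⟨fun h => hj1 ?_, h1 j hj3⟩⟩
          · rw [← h2 j hj3, h, h2 i hi]
          · rw [← h2 j hj3, h])
        (fun j hj => h2 j (Finset.mem_of_mem_erase (Finset.mem_of_mem_erase hj)))
        (fun j hj => h3 j (Finset.mem_of_mem_erase (Finset.mem_of_mem_erase hj)))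
        (fun j hj => h4 j (Finset.mem_of_mem_erase (Finset.mem_of_mem_erase hj)))
      have hiV : i ∉ V := fun h => by
        have := hV h
        simp at this
      refine ⟨insert i V, ?_, ?_⟩
      · intro j hj
        rcases Finset.mem_insert.1 hj with rfl | hj
        · exact hi
        · exact Finset.mem_of_mem_erase (Finset.mem_of_mem_erase (hV hj))
      · rw [← Finset.add_sum_erase _ _ hi, ← Finset.add_sum_erase _ _ hσi, hs, Finset.sum_insert hiV, h4 i hi]
        ring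

variable {G : Type u} [Group G] [Finite G] {q : ℕ}

theorem centralizer_inv_singleton (g : G) :
    Subgroup.centralizer ({g⁻¹} : Set G) = Subgroup.centralizer ({g} : Set G) := by
  ext x
  rw [Subgroup.mem_centralizer_singleton_iff, Subgroup.mem_centralizer_singleton_iff]
  constructor
  · intro h
    have h1 : Commute x g⁻¹ := h
    exact (Commute.inv_right_iff.1 h1).eq
  · intro h
    have h1 : Commute x g := h
    exact (Commute.inv_right_iff.2 h1).eq

/-- the complex conjugate -/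
theorem exists_conj (χ : IrrCharacter G) : ∃ ψ : IrrCharacter G, (∀ g, (ψ : G → ℂ) g = conj ((χ : G → ℂ) g)) ∧
    ∀ M : Ideal AlgInt, χ ∈ principalBlock M G → ψ ∈ principalBlock M G := by
  refine ⟨⟨fun g => conj ((χ : G → ℂ) g), Cfsg.Agent.Characters.Core.isIrr_conj χ.2⟩, fun g => rfl, fun M hM g => ?_⟩
  have h1 := hM g⁻¹
  have h2 : centralChar (fun _ : G => (1 : ℂ)) g = centralChar (fun _ : G => (1 : ℂ)) g⁻¹ := by
    unfold centralChar
    rw [centralizer_inv_singleton]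
  have h3 : centralChar (fun x => conj ((χ : G → ℂ) x)) g = centralChar (χ : G → ℂ) g⁻¹ := by
    obtain ⟨d, -, hd⟩ := Characters.Core.isIrr_apply_one χ.2
    show ((Subgroup.centralizer ({g} : Set G)).index : ℂ) * conj ((χ : G → ℂ) g) / conj ((χ : G → ℂ) 1) =
      ((Subgroup.centralizer ({g⁻¹} : Set G)).index : ℂ) * (χ : G → ℂ) g⁻¹ / (χ : G → ℂ) 1
    rw [centralizer_inv_singleton, Characters.Core.isCharacter_apply_inv (Characters.Core.isIrr_isCharacter χ.2), hd,
      map_natCast]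
  show MemLocalIdeal M (centralChar (fun _ => (1 : ℂ)) g - centralChar (fun x => conj ((χ : G → ℂ) x)) g)
  rw [h3, h2]
  exact h1

/-- **T2, real form** -/
theorem exists_real_of_singular (hq : q.Prime) {y : G} (hy : q ∣ orderOf y) (hr : IsConj y y⁻¹)
    (hv : ∀ χ : IrrCharacter G, χ ∈ B0 q G → ¬ 2 ∣ charDegree (χ : G → ℂ) → q ∣ charDegree (χ : G → ℂ) → (χ : G → ℂ) y = 0) :
    ∃ χ : IrrCharacter G, χ ∈ B0 q G ∧ (∀ g, ((χ : G → ℂ) g).im = 0) ∧ ¬ 2 ∣ charDegree (χ : G → ℂ) ∧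
      ¬ q ∣ charDegree (χ : G → ℂ) ∧ (χ : G → ℂ) ≠ fun _ => 1 := by
  classical
  have hqF : Fact q.Prime := ⟨hq⟩
  have h2F : Fact (Nat.Prime 2) := ⟨Nat.prime_two⟩
  obtain ⟨M, hM⟩ := ExistsModular.exists_isPModular hq
  obtain ⟨M2, hM2⟩ := ExistsModular.exists_isPModular Nat.prime_two
  have hMp := Local.isPrime_of_isPModular hM
  have hM2p := Local.isPrime_of_isPModular hM2
  have hfin : Finite (IrrCharacter G) := S0909.finite_irr
  have := Fintype.ofFinite (IrrCharacter G)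
  by_contra hcon
  push Not at hcon
  have h1 := Orthogonality.weak_block_orthogonality hM (B0 q G) (fun g => by
    rw [B0_eq hq hM]
    exact Osima.memLocalRing_blockCoeff hM PrincipalSection.isPBlock_principalBlock g)
    (x := (1 : G)) (y := y) (by rw [orderOf_one]; exact hq.one_lt.not_ge ∘ Nat.le_of_dvd one_pos) hy
  rw [Orthogonality.finsum_mem_eq_sum_filter] at h1
  set S := Finset.univ.filter (fun χ : IrrCharacter G => χ ∈ B0 q G) with hS
  set f : IrrCharacter G → ℂ := fun χ => (χ : G → ℂ) 1 * conj ((χ : G → ℂ) y) with hf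
  -- the conjugation
  choose σ hσ hσB using fun χ : IrrCharacter G => exists_conj χ
  have hinv : ∀ χ : IrrCharacter G, ∀ g, (χ : G → ℂ) g⁻¹ = conj ((χ : G → ℂ) g) := fun χ g =>
    Characters.Core.isCharacter_apply_inv (Characters.Core.isIrr_isCharacter χ.2) g
  have hreal : ∀ χ : IrrCharacter G, conj ((χ : G → ℂ) y) = (χ : G → ℂ) y := by
    intro χ
    rw [← hinv]
    obtain ⟨c, hc⟩ := isConj_iff.1 hr
    rw [← hc]
    exact H739.PQ.irr_conj χ y c
  have hσσ : ∀ χ, σ (σ χ) = χ := fun χ => Subtype.ext (funext fun g => by rw [hσ, hσ, Complex.conj_conj])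
  have hσS : ∀ χ, χ ∈ S → σ χ ∈ S := by
    intro χ hχ
    rw [hS, Finset.mem_filter] at hχ ⊢
    refine ⟨Finset.mem_univ _, ?_⟩
    have h2 := hχ.2
    rw [B0_eq hq hM] at h2 ⊢
    exact hσB χ M h2
  have hfσ : ∀ χ, f (σ χ) = f χ := by
    intro χ
    show (σ χ : G → ℂ) 1 * conj ((σ χ : G → ℂ) y) = (χ : G → ℂ) 1 * conj ((χ : G → ℂ) y)
    rw [hσ, hσ, Complex.conj_conj, irr_one_eq_charDegree χ.2, Complex.conj_natCast, hreal]
  have hfR : ∀ χ, MemLocalRing M2 (f χ) := by
    intro χ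
    show MemLocalRing M2 ((χ : G → ℂ) 1 * conj ((χ : G → ℂ) y))
    rw [hreal, irr_one_eq_charDegree χ.2]
    exact memLocalRing_mul (memLocalRing_natCast _) (FullDefect.memLocalRing_irr χ y)
  rw [← Finset.sum_filter_add_sum_filter_not S (fun χ => σ χ = χ)] at h1
  obtain ⟨V, hV, hs⟩ := exists_half σ f _ (S.filter (fun χ => ¬ σ χ = χ)) rfl
    (fun χ hχ => by
      rw [Finset.mem_filter] at hχ ⊢
      exact ⟨hσS χ hχ.1, fun h => hχ.2 (by rw [hσσ] at h; exact h.symm)⟩)
    (fun χ _ => hσσ χ) (fun χ hχ => (Finset.mem_filter.1 hχ).2) (fun χ _ => hfσ χ)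
  change (∑ χ ∈ S.filter (fun χ => σ χ = χ), f χ) + (∑ χ ∈ S.filter (fun χ => ¬ σ χ = χ), f χ) = 0 at h1
  rw [hs] at h1
  let one : IrrCharacter G := ⟨_, isIrrCharacter_one⟩
  have hone : one ∈ S.filter (fun χ => σ χ = χ) := by
    rw [Finset.mem_filter, hS, Finset.mem_filter]
    refine ⟨⟨Finset.mem_univ _, triv_mem hq⟩, Subtype.ext (funext fun g => ?_)⟩
    rw [hσ]
    show conj (1 : ℂ) = 1
    simp
  rw [← Finset.add_sum_erase _ _ hone] at h1
  have h2 : MemLocalIdeal M2 (∑ χ ∈ (S.filter (fun χ => σ χ = χ)).erase one, f χ) := by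
    refine memLocalIdeal_sum fun χ hχ => ?_
    obtain ⟨hne, hmem⟩ := Finset.mem_erase.1 hχ
    obtain ⟨hmem, hrl⟩ := Finset.mem_filter.1 hmem
    have hmem' := (Finset.mem_filter.1 hmem).2
    have hrl' : ∀ g, ((χ : G → ℂ) g).im = 0 := by
      intro g
      have h3 := hσ χ g
      rw [hrl] at h3
      exact Complex.conj_eq_iff_im.1 h3.symm
    by_cases hd2 : 2 ∣ charDegree (χ : G → ℂ)
    · show MemLocalIdeal M2 ((χ : G → ℂ) 1 * conj ((χ : G → ℂ) y))
      rw [irr_one_eq_charDegree χ.2, hreal]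
      exact memLocalIdeal_mul_right ((memLocalIdeal_natCast_iff hM2 _).2 hd2) (FullDefect.memLocalRing_irr χ y)
    · by_cases hdq : q ∣ charDegree (χ : G → ℂ)
      · show MemLocalIdeal M2 ((χ : G → ℂ) 1 * conj ((χ : G → ℂ) y))
        rw [hv χ hmem' hd2 hdq, map_zero, mul_zero]
        exact memLocalIdeal_zero
      · exact absurd (Subtype.ext (hcon χ hmem' hrl' hd2 hdq)) hne
  have h2' : MemLocalIdeal M2 (2 * ∑ χ ∈ V, f χ) := by
    have h3 : MemLocalIdeal M2 ((2 : ℕ) : ℂ) := (memLocalIdeal_natCast_iff hM2 _).2 dvd_rfl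
    have h4 : MemLocalRing M2 (∑ χ ∈ V, f χ) := memLocalRing_sum fun χ _ => hfR χ
    have h5 := memLocalIdeal_mul_right h3 h4
    simpa using h5
  have h3 : f one = 1 := by
    show (1 : ℂ) * conj (1 : ℂ) = 1
    simp
  rw [h3] at h1
  have h4 : MemLocalIdeal M2 (1 : ℂ) := by
    have h5 := memLocalIdeal_neg (memLocalIdeal_add h2 h2')
    have h6 : (1 : ℂ) = -((∑ χ ∈ (S.filter (fun χ => σ χ = χ)).erase one, f χ) + 2 * ∑ χ ∈ V, f χ) := by
      linear_combination h1
    rw [← h6] at h5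
    exact h5
  have h6 := (memLocalIdeal_natCast_iff hM2 1).1 (by simpa using h4)
  norm_num at h6

/-- **`q ∥ |G|` and a real element of order `q`** -/
theorem RowQ.of_real_exact (hq : q.Prime) {y : G} (hy : orderOf y = q) (hr : IsConj y y⁻¹)
    (hG' : ¬ q ^ 2 ∣ Nat.card G) : RowQ q G := by
  have hG : q ∣ Nat.card G := hy ▸ orderOf_dvd_natCard y
  obtain ⟨χ, h1, h2, h3, h4, h5⟩ := exists_real_of_singular hq (y := y) (by rw [hy]) hr fun χ hχ _ hd =>
    absurd hχ (not_mem_dz (b := 1) hq rfl (Blocks.Basic.charDegree_pos χ.2).ne' one_ne_zero (by rwa [pow_one])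
      (by rwa [pow_one]) hG')
  exact ⟨χ, real_mem h2 h3, h1, h3, h4, h5⟩

end Cfsg.Agent.H635.SB
end

-- part: H635/SB/Sq
section
set_option linter.all false
open scoped Cfsg.Agent.FastGrp

/-!
# S4884: the Sylow `q`-subgroup of order `q` or `q²` (helper635)

`RowQ.of_sq` : `q ∣ |S|`, `¬ q³ ∣ |S|`, the characters of odd degree in `B0 2 S`;
`RowQ.of_real_sq` : `¬ q³ ∣ |S|`, a real element of order `q`;
`nb_of_centric` : a `q`-subgroup whose centralizer is a `q`-group: `NB q 1`.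
-/

set_option autoImplicit false
set_option linter.unusedSectionVars false
set_option linter.unusedVariables false

open Cfsg

namespace Cfsg.Agent.H635.SB

open Cfsg.Agent.H317.PQ Cfsg.Agent.H709.PB Cfsg.Agent.H766.PQ Cfsg.Agent.Blocks.Basic
open Cfsg.Agent.Blocks Cfsg.Agent.Blocks.Local Cfsg.Agent.H635.PQ
open scoped ComplexConjugate

universe u v

variable {G : Type u} [Group G] [Finite G] {q : ℕ}

theorem exists_odd_of_sq (hq : q.Prime) (hG : q ∣ Nat.card G) (hG' : ¬ q ^ 3 ∣ Nat.card G) :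
    ∃ χ : IrrCharacter G, χ ∈ B0 q G ∧ ¬ 2 ∣ charDegree (χ : G → ℂ) ∧ ¬ q ∣ charDegree (χ : G → ℂ) ∧
      (χ : G → ℂ) ≠ fun _ => 1 := by
  have hqF : Fact q.Prime := ⟨hq⟩
  obtain ⟨y, hy⟩ := exists_prime_orderOf_dvd_card' q hG
  refine exists_odd_of_singular hq (y := y) (by rw [hy]) fun χ hχ _ hd => ?_
  exact absurd hχ (H488.PQ.not_mem_height (b := 1) hq one_ne_zero (by rwa [pow_one]) hG')

/-- **Order `q` or `q²`, the characters of odd degree in the principal 2-block.** -/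
theorem RowQ.of_sq (hq : q.Prime) (h2 : NB 2 1 G) (hG : q ∣ Nat.card G) (hG' : ¬ q ^ 3 ∣ Nat.card G) : RowQ q G := by
  obtain ⟨χ, h1, h3, h4, h5⟩ := exists_odd_of_sq hq hG hG'
  exact ⟨χ, mem_of_nb Nat.prime_two h2 rfl (by rwa [pow_one]), h1, h3, h4, h5⟩

/-- **Order `q` or `q²`, a real element of order `q`.** -/
theorem RowQ.of_real_sq (hq : q.Prime) {y : G} (hy : orderOf y = q) (hr : IsConj y y⁻¹)
    (hG' : ¬ q ^ 3 ∣ Nat.card G) : RowQ q G := by
  obtain ⟨χ, h1, h2, h3, h4, h5⟩ := exists_real_of_singular hq (y := y) (by rw [hy]) hr fun χ hχ _ hd =>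
    absurd hχ (H488.PQ.not_mem_height (b := 1) hq one_ne_zero (by rwa [pow_one]) hG')
  exact ⟨χ, real_mem h2 h3, h1, h3, h4, h5⟩

theorem RowQ.of_hasReal_sq (hq : q.Prime) (h : H722.RealP.HasReal q G) (hG' : ¬ q ^ 3 ∣ Nat.card G) : RowQ q G := by
  obtain ⟨x, t, hx, -, ht⟩ := h
  exact RowQ.of_real_sq hq hx (isConj_iff.2 ⟨t, ht⟩) hG'

/-- a `q`-subgroup whose centralizer is a `q`-group -/
theorem nb_of_centric [hq : Fact q.Prime] {Q : Subgroup G} (hQ : IsPGroup q Q)
    (hC : IsPGroup q (Subgroup.centralizer (Q : Set G))) : NB q 1 G := by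
  obtain ⟨P, hP⟩ := hQ.exists_le_sylow
  exact NB.of_sylow P (hC.to_le (Subgroup.centralizer_le hP))

end Cfsg.Agent.H635.SB
end
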